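import Cfsg.Agent.PG.BG14.T11

/-!
B & G, section 15: `M_F`, Lemma 15.1 and Corollary 15.3(a).
-/

set_option autoImplicit false
set_option linter.unusedSectionVars false

open Pointwise Cfsg Cfsg.Lib.Solv

namespace Cfsg.Lib.FT.PG

variable {G : Type*} [Group G] [Dl G] [Finite G]

theorem Fcore_sub_Msigma (hG : Ctx G) {M : Subgroup G} (hM : Mx M) :
    fittingHallOf M ≤ sigmaCore M := by
  refine sub_Msigma hG hM (Fcore_sub M) (pgroupP.2 fun p hp hd => ?_)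
  have := Fact.mk hp
  obtain ⟨h1, -⟩ := Fcore_pcore_Sylow hd
  refine mem_sigma_of_Sylow (mmax_proper hM) hp h1 (mmax_normal hG hM (pcore_normal _ _) ?_).le
    (Fcore_dg hG hM p hp hd)
  exact Sylow_ne_bot h1 (hd.trans (cardSg (Fcore_sub M)))

theorem Fcore_eq_Msigma (hG : Ctx G) {M : Subgroup G} (hM : Mx M) :
    fittingHallOf M = sigmaCore M ↔ Group.IsNilpotent (sigmaCore M) :=
  ⟨fun h => h ▸ Fcore_nil M, fun h => le_antisymm (Fcore_sub_Msigma hG hM)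
    (Fcore_max (Msigma_Hall hG hM) (Msigma_normal M).norm h)⟩

/-- Hall `κ(M)`-subgroups are cyclic (part of 15.1(a)). -/
theorem kappa_Hall_cyclic (hG : Ctx G) {M K : Subgroup G} (hM : Mx M)
    (hK : IsPiHallOf (kappa M) K M) : IsCyclic K := by
  by_cases h : K = ⊥
  · subst h; infer_instance
  · obtain ⟨_, -, -, -, -, -, ⟨hc, -⟩, -⟩ := Ptype_embedding hG ((nontriv_kappa hM hK).1 h) hK
    exact cyclicS le_sup_left hc

omit [Finite G] in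
theorem bg15_kappa_compl_sigma' {M U K : Subgroup G} (h : KappaCompl M U K) :
    IsPiSubgroup (sigma M)ᶜ U :=
  sub_pgroup (Set.compl_subset_compl.2 Set.subset_union_left) (pHall_pgroup h.hallU)

omit [Finite G] in
theorem bg15_kappa_compl_kappa' {M U K : Subgroup G} (h : KappaCompl M U K) :
    IsPiSubgroup (kappa M)ᶜ U :=
  sub_pgroup (Set.compl_subset_compl.2 Set.subset_union_right) (pHall_pgroup h.hallU)

/-- an element of `U#` with fixed points on `M_σ#` is a `τ₂(M)`-element -/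
theorem bg15_kappa_compl_cent1_tau2 (hG : Ctx G) {M U K : Subgroup G} (hM : Mx M)
    (h : KappaCompl M U K) {x : G} (hx : x ∈ U) (hx1 : x ≠ 1) (hC : sigmaCore M ⊓ 𝐂₁ x ≠ ⊥) :
    PiElt (tau2 M) x ∧ UniqMax (𝐂₁ x) M := by
  obtain ⟨y, ⟨hy, hyx⟩, hy1⟩ := trivgPn.1 hC
  rcases pi_of_cent_sigma hG hM hy hy1 ⟨pHall_sub h.hallU hx, cent1C.1 hyx⟩ hx1
    (mem_p_elt (bg15_kappa_compl_sigma' h) hx) with ⟨h1, -⟩ | ⟨h1, -, h2⟩
  · exact absurd (p_elt_eq_one h1 (mem_p_elt (bg15_kappa_compl_kappa' h) hx)) hx1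
  · exact ⟨h1, h2⟩

/-- B & G, Lemma 15.1.  In (a), `M' / M_σ` is abelian; (d) gives an abelian normal subgroup of `U`
that contains the groups `C_U(x)`, `x ∈ M_σ#`. -/
theorem kappa_structure (hG : Ctx G) {M U K : Subgroup G} (hM : Mx M)
    (h : KappaCompl M U K) :
    (SDProd (sigmaCore M) U (sigmaCore M ⊔ U) ∧ SDProd (sigmaCore M ⊔ U) K M ∧ IsCyclic K ∧
      ⁅⁅M, M⁆, ⁅M, M⁆⁆ ≤ sigmaCore M) ∧
    (K ≠ ⊥ → SDProd (sigmaCore M) U ⁅M, M⁆ ∧ IsMulCommutative U) ∧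
    (∀ X : Subgroup G, X ≤ U → X ≠ ⊥ → sigmaCore M ⊓ 𝐂 X ≠ ⊥ →
      UniqMax (𝐂 X) M ∧ IsCyclic X ∧ IsPiSubgroup (tau2 M) X) ∧
    (∃ A₀ : Subgroup G, IsMulCommutative A₀ ∧ A₀ ⊲ U ∧
      ∀ x ∈ sigmaCore M, x ≠ 1 → U ⊓ 𝐂₁ x ≤ A₀) ∧
    (U ≠ ⊥ → ∃ U₀ : Subgroup G, U₀ ≤ U ∧ Monoid.exponent U₀ = Monoid.exponent U ∧
      IsFrob (sigmaCore M ⊔ U₀) (sigmaCore M) U₀) := by
  obtain ⟨hE, hUK, hME, -, -, hab⟩ := kappa_compl_context hG hM h
  obtain ⟨h1, h2⟩ := SDProd.assoc' hUK hME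
  have hKc := kappa_Hall_cyclic hG hM h.hallK
  have hUM : U ≤ M := pHall_sub h.hallU
  have hF : U ≠ ⊥ → _ := fun hU => FTtypeF_complement hG hM hE
    (hUK.isHallOf_left_iff.2 (p'nat_coprime (bg15_kappa_compl_kappa' h) (pHall_pgroup h.hallK)))
    hUK.normal hU fun e he he1 hτ => by
      by_contra hne
      refine he1 (p_elt_eq_one (bg15_kappa_compl_cent1_tau2 hG hM h he he1 hne).1 (sub_p_elt ?_ hτ))
      rintro p (hp | hp)
      · exact tau2'1 M hp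
      · exact fun h' => tau3'2 M h' hp
  refine ⟨⟨h1, h2, hKc, (sdprod_der1_sigma hG hM hE).der_le_left (der_mmax_compl_abelian hG hM hE)⟩,
    fun hK => ⟨?_, hab hK⟩, fun X hXU hX hC => ?_, ?_, fun hU => (hF hU).2⟩
  · obtain ⟨_, -, -, -, -, -, -, -, -, -, h3⟩ :=
      Ptype_embedding hG ((nontriv_kappa hM h.hallK).1 hK) h.hallK
    have h4 : ⁅M, M⁆ = sigmaCore M ⊔ U :=
      eq_of_le_of_card_le (h2.der_le_left (cyclic_abelian hKc))
        (Nat.eq_of_mul_eq_mul_right (cardG_gt0 K) (h2.card.trans h3.card.symm)).le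
    rwa [h4]
  · have hC1 : ∀ x ∈ X, sigmaCore M ⊓ 𝐂₁ x ≠ ⊥ := fun x hx =>
      subG1_contra (inf_le_inf_left _ (cent_le_cent1 hx)) hC
    have hτ : IsPiSubgroup (tau2 M) X := pgroup_of_forall_pelt fun x hx => by
      by_cases hx1 : x = 1
      · exact hx1 ▸ p_elt1
      · exact (bg15_kappa_compl_cent1_tau2 hG hM h (hXU hx) hx1 (hC1 x hx)).1
    have hXa : IsMulCommutative X := by
      obtain ⟨⟨E₁, hE₁⟩, E₃, hE₃⟩ := ex_tau13_compl hG hM hE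
      obtain ⟨E₂, hE₂⟩ := ex_tau2_compl hG hM hE hE₁ hE₃
      obtain ⟨g, -, hg⟩ := Hall_Jsub (sigma_compl_sol hG hM hE) hE₂.hall2 (hXU.trans le_sup_left) hτ
      exact (abelianJ g).1 (abelianS hg (tau2_compl_abelian hG hM hE₂))
    have hXc : IsCyclic X := by
      by_contra hnc
      obtain ⟨p, hp, A, hA⟩ := abelian_not_cyclic_p2Elem hXa hnc
      have := Fact.mk hp
      have h3 := (tau2_context hG hM (pnElem_mem_pi hA two_pos hτ)
        (pnElemS (hXU.trans hUM) hA)).2.2.1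
      exact hC (eq_bot_iff.2 (h3 ▸ inf_le_inf_left _ (centS (pnElem_sub hA))))
    refine ⟨?_, hXc, hτ⟩
    obtain ⟨x, rfl⟩ := cyclicP.1 hXc
    have hx := Subgroup.mem_zpowers x
    rw [cent_zpowers]
    exact (bg15_kappa_compl_cent1_tau2 hG hM h (hXU hx) (by simpa using hX) (hC1 x hx)).2
  · by_cases hU : U = ⊥
    · exact ⟨⊥, abelian_bot, hU ▸ normal_refl _, fun x _ _ => hU ▸ inf_le_left⟩
    · exact (hF hU).1

/-- a `(σ(M) ∪ κ(M))'`-subgroup of `M` lies in the `U` of some decomposition -/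
theorem bg15_ex_kappa_compl_superset (hG : Ctx G) {M X : Subgroup G} (hM : Mx M)
    (hXM : X ≤ M) (hX : IsPiSubgroup (sigmaKappa M)ᶜ X) :
    ∃ U K : Subgroup G, KappaCompl M U K ∧ X ≤ U := by
  obtain ⟨K, hK⟩ := ex_kappa_Hall hG hM
  obtain ⟨U, hU⟩ := ex_kappa_compl hG hM hK
  obtain ⟨g, hg, h⟩ := Hall_subJ (mmax_sol hG hM) hU.hallU hXM hX
  have h1 := hU.conj g
  rw [conjGid hg] at h1
  exact ⟨_, _, h1, h⟩

/-- a subgroup of `M` centralizing a nontrivial Hall subgroup of `M_σ` is a `κ(M)'`-group -/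
theorem bg15_cent_Hall_sigma_kappa' (hG : Ctx G) {M H : Subgroup G} (hM : Mx M)
    (hH : IsHallOf H (sigmaCore M)) (hH1 : H ≠ ⊥) : IsPiSubgroup (kappa M)ᶜ (M ⊓ 𝐂 H) := by
  refine pgroupP.2 fun p hp hd hκ => ?_
  obtain ⟨X, hX, hXp⟩ := exists_prime_subgroup hp hd
  obtain ⟨K, hK, hXK⟩ := Hall_superset (mmax_sol hG hM) (hX.trans inf_le_left)
    ((prime_pgroup hXp hp).2 hκ)
  have hX1 : X ≠ ⊥ := prime_ne_bot (hXp ▸ hp)
  obtain ⟨⟨U, -, -, -, hpr, -⟩, -, -, -, he, -⟩ :=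
    Ptype_structure hG ((nontriv_kappa hM hK).1 (subG1_contra hXK hX1)) hK
  have h1 : H ≤ sigmaCore M ⊓ 𝐂 K :=
    hpr.cent hXK hX1 ▸ le_inf hH.1 (centsC.1 (hX.trans inf_le_right))
  obtain ⟨q, hq, hqd⟩ := exists_prime_dvd_card hH1
  have := Fact.mk hq
  obtain ⟨S, hS⟩ := Sylow_exists q H
  exact (he q hq (hqd.trans (cardSg h1)) S (subHall_Sylow (Hall_pi hH) ⟨hq, hqd⟩ hS)).2
    ((pHall_sub hS).trans h1)

/-- B & G, Corollary 15.3(a). -/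
theorem cent_Hall_sigma_sdprod (hG : Ctx G) {M H : Subgroup G} (hM : Mx M)
    (hH : IsHallOf H (sigmaCore M)) (hH1 : H ≠ ⊥) :
    ∃ X : Subgroup G, X ≤ M ∧ IsCyclic X ∧ IsPiSubgroup (tau2 M) X ∧
      SDProd (sigmaCore M ⊓ 𝐂 H) X (M ⊓ 𝐂 H) := by
  obtain ⟨X, hX⟩ := Hall_exists (sigma M)ᶜ (sub_mmax_sol hG hM (inf_le_left : M ⊓ 𝐂 H ≤ M))
  have hXM : X ≤ M := (pHall_sub hX).trans inf_le_left
  have h1 : sigmaCore M ⊓ (M ⊓ 𝐂 H) = sigmaCore M ⊓ 𝐂 H := by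
    rw [← inf_assoc, inf_eq_left.2 (Msigma_normal M).le]
  have hs : SDProd (sigmaCore M ⊓ 𝐂 H) X (M ⊓ 𝐂 H) := by
    rw [← h1]
    exact sdprod_normal_pHall (norm_normalI' (inf_le_left.trans (Msigma_normal M).norm))
      (Hall_setI_normal (Msigma_Hall hG hM) (Msigma_normal M).norm inf_le_left) hX
  by_cases hX1 : X = ⊥
  · exact ⟨X, hXM, hX1 ▸ inferInstance, hX1 ▸ pgroup1, hs⟩
  obtain ⟨U, K, hUK, hXU⟩ := bg15_ex_kappa_compl_superset hG hM hXM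
    (sub_pgroup (fun p hp => by simpa [mem_sigmaKappa] using hp)
      (pgroupI (pHall_pgroup hX) (pgroupS (pHall_sub hX) (bg15_cent_Hall_sigma_kappa' hG hM hH hH1))))
  obtain ⟨-, h2, h3⟩ := (kappa_structure hG hM hUK).2.2.1 X hXU hX1
    (subG1_contra (le_inf hH.1 (centsC.1 ((pHall_sub hX).trans inf_le_right))) hH1)
  exact ⟨X, hXM, h2, h3, hs⟩

end Cfsg.Lib.FT.PG
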