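import Cfsg.Agent.PG.BG15.Fcore

/-!
B & G, Theorem 15.7.
-/

set_option autoImplicit false
set_option linter.unusedSectionVars false

open Pointwise Cfsg Cfsg.Lib.Solv

namespace Cfsg.Lib.FT.PG

variable {G : Type*} [Group G] [Dl G] [Finite G]

namespace BG15

open Cfsg.Lib.FT.BG15
variable {M X X₁ : Subgroup G} {g : G} {p : ℕ}

theorem prime_sigma (hG : Ctx G) (hM : Mx M) (hg : g ∉ M) (hp : p.Prime)
    (hc : Nat.card X₁ = p) (hX : X₁ ≤ fittingOf M ⊓ g •ᶜ fittingOf M) :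
    p ∈ sigma M ∧ ¬ 𝐂 X₁ ≤ M := by
  have := Fact.mk hp
  have h0 : g⁻¹ •ᶜ X₁ ≤ fittingOf M := by
    have h1 := (conjSg g⁻¹).2 (hX.trans inf_le_right)
    rwa [← conj_mul_smul, inv_mul_cancel, conj_one_smul] at h1
  have hσ : p ∈ sigma M := by
    by_contra hσ
    have h1 : IsPiSubgroup (sigma M)ᶜ X₁ := (prime_pgroup hc hp).2 hσ
    have hY := (Fitting_structure hG hM).1.1
    have h2 := nilpotent_sub_pcore (Fitting_nil M) (hX.trans inf_le_left) h1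
    have h3 := nilpotent_sub_pcore (Fitting_nil M) h0 ((pgroupJ _).2 h1)
    have h4 : g⁻¹ ∈ 𝐍 X₁ := normP.2 ((eq_subG_cyclic hY h3 h2).2 (SZ.card_conj_smul _ _))
    rw [mmax_normal hG hM (normal_sub_cyclic hY h2 (pcore_normal_trans _ (Fitting_normal M)))
      (prime_ne_bot (hc ▸ hp))] at h4
    exact hg (by simpa using h4)
  refine ⟨hσ, fun hC => hg ?_⟩
  simpa using sigma_cent_sub_trans hG hM hσ (isPGroup_of_card_prime hc)
    ((hX.trans inf_le_left).trans (Fitting_sub M)) hC (h0.trans (Fitting_sub M))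

theorem not_uniq (hG : Ctx G) (hM : Mx M) (h1 : X₁ ≠ ⊥) (hC : ¬ 𝐂 X₁ ≤ M)
    {Y : Subgroup G} (hYM : Y ≤ M) (hYC : Y ≤ 𝐂 X₁) (h : InUniqueMaximal Y)
    (hd : DG X₁ := by dlt) : False :=
  hC (sub_uniq_mmax (def_uniq_mmax h hM hYM) hYC (mFT_cent_proper hG h1))

/-- parts (a) - (d) of 15.7 -/
theorem nonTI_basic (hG : Ctx G) (hM : Mx M) (hg : g ∉ M)
    (hX : X = fittingOf M ⊓ g •ᶜ fittingOf M) (hX1 : X ≠ ⊥) :
    ((MaxF M ∨ MaxP1 M) ∧ fittingHallOf M = sigmaCore M) ∧ (X ≤ sigmaCore M ∧ IsCyclic X) ∧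
    (⁅M, M⁆ ≤ fittingOf M ∧
      DProd (sigmaCore M) (piCoreOf (sigma M)ᶜ (fittingOf M)) (fittingOf M)) ∧
    (∀ E E₁ E₂ E₃ : Subgroup G, SigmaCompl M E E₁ E₂ E₃ →
      E₃ = ⊥ ∧ SDProd E₂ E₁ E ∧ IsCyclic E₁) ∧ ∀ q, q ∉ beta M := by
  have hXF : X ≤ fittingOf M := hX ▸ inf_le_left
  have hXσ : IsPiSubgroup (sigma M) X := pgroupP.2 fun p hp hd => by
    obtain ⟨X₁, h1, h2⟩ := exists_prime_subgroup hp hd
    exact (prime_sigma hG hM hg hp h2 (hX ▸ h1)).1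
  have hXS : X ≤ sigmaCore M := sub_Msigma hG hM (hXF.trans (Fitting_sub M)) hXσ
  have hXg : X ≤ g •ᶜ sigmaCore M := by
    have h1 := (conjSg g⁻¹).2 (hX ▸ inf_le_right : X ≤ g •ᶜ fittingOf M)
    rw [← conj_mul_smul, inv_mul_cancel, conj_one_smul] at h1
    have h2 := (conjSg g).2 (sub_Msigma hG hM (h1.trans (Fitting_sub M)) ((pgroupJ _).2 hXσ))
    rwa [← conj_mul_smul, mul_inv_cancel, conj_one_smul] at h2
  obtain ⟨E₀, hE₀, -⟩ := ex_sigma_compl hG hM bot_le pgroup1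
  obtain ⟨h1, h2, -⟩ := (sigma_compl_embedding hG hM hE₀).2.2 g hg
  have hXI : X ≤ sigmaCore M ⊓ g •ᶜ M :=
    le_inf hXS (hXg.trans ((conjSg g).2 (Msigma_normal M).le))
  obtain ⟨X₁, hX₁, hp⟩ := exists_prime_subgroup_of_ne_bot hX1
  have hC := (prime_sigma hG hM hg hp rfl (hX ▸ hX₁)).2
  have hβ : ∀ q ∈ beta M, ∀ Q, IsSylowOf q Q M → ¬ Q ≤ fittingOf M := fun q hq Q hQ hQF => by
    have := Fact.mk (beta_prime hq)
    refine not_uniq hG hM (prime_ne_bot hp) hC (pHall_sub hQ) ?_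
      (beta_noncyclic_uniq hG hq.2 (Sylow_pgroup hQ) ?_ (alpha_dl hG hM.1 hq.1))
    · exact sub_nilpotent_cent2 (Fitting_nil M) (hX₁.trans hXF) hQF
        (p'nat_coprime (pgroupS (hX₁.trans hXI) h2) (pi_pgroup (Sylow_pgroup hQ) hq))
    · rw [rank_Sylow hQ]
      exact lt_trans one_lt_two (mem_alpha_iff.1 hq.1).2
  have hH : fittingHallOf M = sigmaCore M := by
    by_contra hne
    obtain ⟨K, hK⟩ := ex_kappa_Hall hG hM
    obtain ⟨-, ⟨-, -, -, h3⟩, h4, -, h5, -⟩ := Fcore_neq_Msigma hG hM hK hne rfl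
    exact hβ _ h3 _ h4 h5.le_left
  have hnil := (Fcore_eq_Msigma hG hM).1 hH
  have hβ' : ∀ q, q ∉ beta M := fun q hq => by
    have := Fact.mk (beta_prime hq)
    obtain ⟨Q, hQ⟩ := Sylow_exists q (sigmaCore M)
    exact hβ q hq Q (subHall_Sylow (Msigma_Hall hG hM) (beta_sub_sigma hG hM hq) hQ)
      ((pHall_sub hQ).trans (hH ▸ Fcore_sub_Fitting M))
  have hder : ⁅M, M⁆ ≤ fittingOf M := by
    obtain ⟨H', h3, h4⟩ := der_compl_cent_beta' hG hM hE₀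
    rw [pHall_eq_self h3 (pgroupP.2 fun q _ _ => hβ' q)] at h4
    refine Fitting_max (der_normal M) ?_
    rw [← (sdprod_der1_sigma hG hM hE₀).sup]
    exact cprod_nil hnil (der1_sigma_compl_nil hG hM hE₀) h4
  obtain ⟨⟨-, hYτ⟩, ⟨-, -, hdp⟩, -⟩ := Fitting_structure hG hM
  rw [le_antisymm (Fitting_sub _) (Fitting_max (normal_refl _) hnil)] at hdp
  refine ⟨⟨?_, hH⟩, ⟨hXS, cyclicS hXI h1⟩, ⟨hder, hdp⟩, fun E E₁ E₂ E₃ hE => ?_, hβ'⟩
  · refine (maxF_or_maxP hM).imp_right fun hP => hP.p1_or_p2.resolve_right fun hP2 => hX1 ?_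
    obtain ⟨K, hK⟩ := ex_kappa_Hall hG hM
    have h3 := ((Ptype_structure hG hP hK).2.2.2.2.2.2 hP2).2.2.2
    exact eq_bot_iff.2 (h3.inf_conj_eq_bot (Subgroup.mem_top g) hg ▸ le_inf hXS hXg)
  · obtain ⟨⟨h3, -⟩, -, ⟨h4, -⟩, ⟨h5, h6, -⟩, -⟩ := sigma_compl_context hG hM hE
    have h7 : E₃ = ⊥ := by
      refine pgroup_eq_bot (pgroupS (nilpotent_sub_pcore (Fitting_nil M)
        ((h3.trans (dergS (pHall_sub hE.hallE))).trans hder)
        (pgroupS (pHall_sub hE.hall3) (pHall_pgroup hE.hallE))) hYτ)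
        (sub_pgroup (fun r hr hr' => tau3'2 M hr' hr) (pHall_pgroup hE.hall3))
    exact ⟨h7, h6.eq_right_of_left_eq_bot h7 ▸ h5, h4⟩

/-- structure of `M_σ` when it is not abelian -/
theorem nonTI_nonabelian (hG : Ctx G) (hM : Mx M) (hg : g ∉ M)
    (hX : X = fittingOf M ⊓ g •ᶜ fittingOf M) (hX1 : X ≠ ⊥)
    (hna : ¬ IsMulCommutative (sigmaCore M)) :
    ∃ p : ℕ, p.Prime ∧ Nat.card X = p ∧ p ∈ sigma M ∧
      ¬ IsMulCommutative (piCoreOf {p} (sigmaCore M)) ∧ IsCyclic (piCoreOf {p}ᶜ (sigmaCore M)) ∧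
      Nat.card (omegaOne p (centerOf (piCoreOf {p} (sigmaCore M)))) = p := by
  obtain ⟨⟨-, hH⟩, ⟨hXS, hXc⟩, -⟩ := nonTI_basic hG hM hg hX hX1
  have hnil := (Fcore_eq_Msigma hG hM).1 hH
  have hσM := (Msigma_normal M).le
  have hab : ∀ p : ℕ, p.Prime → p ∣ Nat.card X → ∀ r : ℕ, r.Prime → r ≠ p →
      IsMulCommutative (piCoreOf {r} (sigmaCore M)) := fun p hp hd r hr hrp => by
    obtain ⟨X₁, h1, h2⟩ := exists_prime_subgroup hp hd
    have := Fact.mk hr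
    have := Fact.mk hp
    by_contra h
    exact not_uniq hG hM (prime_ne_bot (h2 ▸ hp)) (prime_sigma hG hM hg hp h2 (hX ▸ h1)).2
      ((pcore_sub _ _).trans hσM) (sub_nilpotent_cent2 hnil (h1.trans hXS) (pcore_sub _ _)
        (pgroup_coprime_of_ne (isPGroup_of_card_prime h2) (pcore_isPGroup r _) hrp.symm))
      (nonabelian_Uniqueness hG hr (pcore_isPGroup r _) h (Msigma_dg M r hr
        ((pgroup_dvd_card (pcore_isPGroup r _) fun e => h (e ▸ abelian_bot)).trans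
          (cardSg (pcore_sub _ _)))))
  have hna' : ∀ p : ℕ, p.Prime → p ∣ Nat.card X →
      ¬ IsMulCommutative (piCoreOf {p} (sigmaCore M)) := fun p hp hd h =>
    hna (nil_abelian_of_pcores hnil fun r hr => by
      by_cases hrp : r = p
      · exact hrp ▸ h
      · exact hab p hp hd r hr hrp)
  obtain ⟨p, hp, hd⟩ := exists_prime_dvd_card hX1
  have := Fact.mk hp
  have hXp : IsPiSubgroup {p} X := pgroupP.2 fun r hr hrd => by
    by_contra hrp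
    exact hna' r hr hrd (hab p hp hd r hr hrp)
  obtain ⟨X₁, hX₁, hX₁c⟩ := exists_prime_subgroup hp hd
  obtain ⟨hσ, hC⟩ := prime_sigma hG hM hg hp hX₁c (hX ▸ hX₁)
  have hX₁1 : X₁ ≠ ⊥ := prime_ne_bot (hX₁c ▸ hp)
  obtain ⟨P, hP⟩ : ∃ P, P = piCoreOf {p} (sigmaCore M) := ⟨_, rfl⟩
  have hPna : ¬ IsMulCommutative P := hP ▸ hna' p hp hd
  have hPp : IsPGroup p P := hP ▸ pcore_isPGroup p _
  have hPM : P ≤ M := hP ▸ (pcore_sub _ _).trans hσM
  have hXP : X ≤ P := hP ▸ nilpotent_sub_pcore hnil hXS hXp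
  have hP1 : P ≠ ⊥ := subG1_contra hXP hX1
  have hPC : ¬ P ≤ 𝐂 X₁ := fun h =>
    not_uniq hG hM hX₁1 hC hPM h (nonabelian_Uniqueness hG hp hPp hPna)
  obtain ⟨Z₁, hZ₁⟩ := p1Elem_exists (pgroup_dvd_card (isPGroupS inf_le_left hPp : IsPGroup p (centerOf P))
    (mt (center_nil_eq1 (pgroup_nil hPp)).1 hP1))
  have hZ₁C : P ≤ 𝐂 Z₁ := centsC.1 ((pnElem_sub hZ₁).trans inf_le_right)
  have hA : X₁ ⊔ Z₁ ∈ Elem p 2 P :=
    p1Elem_sup (p1ElemE.2 ⟨hX₁.trans hXP, hX₁c⟩) (pnElemS inf_le_left hZ₁)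
      (centsC.1 ((hX₁.trans hXP).trans hZ₁C)) (fun h => hPC (h ▸ hZ₁C))
  have hAC : X₁ ⊔ Z₁ ≤ 𝐂 X₁ := (abelian_le_cent (pnElem_abelian hA)).trans (centS le_sup_left)
  have hAm : X₁ ⊔ Z₁ ∈ MaxElem p ⊤ := by
    by_contra h
    exact not_uniq hG hM hX₁1 hC ((pnElem_sub hA).trans hPM) hAC
      (nonmaxElem2_Uniqueness hG hp (pnElemS le_top hA) h)
  obtain ⟨hZ₀, ⟨Y, -, -, hY⟩, -⟩ := basic_p2maxElem_structure hG hp (pnElemS le_top hA) hAm hPp
    (pnElem_sub hA) hPna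
  have hdp := hY X₁ (p1ElemE.2 ⟨le_sup_left, hX₁c⟩) fun h =>
    hPC (centsC.1 ((h ▸ Ohm_sub p _ : X₁ ≤ centerOf P).trans inf_le_right))
  refine ⟨p, hp, ?_, hσ, hP ▸ hPna, ?_, hP ▸ card_p1Elem_eq hZ₀⟩
  · have hXY : X ⊓ Y = ⊥ := by
      by_contra hne
      obtain ⟨W, hW, hWc⟩ := exists_prime_subgroup hp
        (pgroup_dvd_card (pgroup_iff.1 (pgroupS inf_le_left hXp)) hne)
      have h1 := (eq_subG_cyclic hXc (hW.trans inf_le_left) hX₁).2 (hWc.trans hX₁c.symm)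
      exact hX₁1 (by rw [← hdp.inf, inf_eq_left.2 (h1 ▸ hW.trans inf_le_right)])
    have hXa := cyclic_abelian hXc
    refine cyclic_abelem_prime (abelem_of_abelian_of_pow hXa fun x hx => ?_) hXc hX1
    have h1 : x ∈ P ⊓ 𝐂 (X₁ ⊔ Z₁) := by
      rw [cent_sup]
      exact ⟨hXP hx, centS hX₁ (abelian_le_cent hXa hx), hZ₁C (hXP hx)⟩
    obtain ⟨a, ha, y, hy, rfl⟩ := hdp.exists_mul h1
    have h2 : (a * y) ^ p = y ^ p := by
      rw [Commute.mul_pow (hdp.comm ha hy), abelem_pow (prime_abelem hX₁c) ha, one_mul]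
    rw [← Subgroup.mem_bot, ← hXY]
    exact Subgroup.mem_inf.2 ⟨X.pow_mem hx p, h2 ▸ Y.pow_mem hy p⟩
  · by_contra hnc
    obtain ⟨q, hq, B, hB⟩ := odd_nil_not_cyclic_p2Elem (mFT_odd hG _)
      (nilpotentS (pcore_sub _ _) hnil) hnc
    have := Fact.mk hq
    obtain ⟨x, hx, hxo, hxe⟩ := p1Elem_exists_zpowers (p1ElemE.2 ⟨le_rfl, hX₁c⟩ : X₁ ∈ Elem p 1 X₁)
    have hxσ : x ∈ sigmaCore M := hXS (hX₁ hx)
    have hx1 : x ≠ 1 := by
      rintro rfl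
      exact hp.ne_one (hxo.symm.trans orderOf_one)
    rw [hxe, cent_zpowers] at hC
    have hMx : M ∈ sigmaMmax x := ⟨hM, hxσ⟩
    obtain ⟨hU, -, hτ, -, h1⟩ := FT_signalizer_context' hG (Msigma_ell1 hM hxσ hx1)
      ((nontrivial_sigma_mmax_iff hG hx1 hMx).2 hC)
    have hE := (h1 M hMx).2.2.2
    have hCN : 𝐂 X₁ ≤ signalizerBase x := by rw [hxe, cent_zpowers]; exact hU.le
    have h2 := (nonabelian_tau2 hG hU.mmax hE ((p_elt_prime hxo hp).1 hτ)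
      (pnElem_of_le hA (le_inf ((pnElem_sub hA).trans hPM) (hAC.trans hCN))) hPp hPna).1
    have h3 : B ≤ 𝐂 X₁ := (pnElem_sub hB).trans ((p'core_cent_pcore _ _).trans
      (centS (hP ▸ hX₁.trans hXP)))
    have h4 := sigma'2Elem_tau2 hG hU.mmax hE hq (pnElem_of_le hB
      (le_inf ((pnElem_sub hB).trans ((pcore_sub _ _).trans hσM)) (h3.trans hCN)))
    rw [h2] at h4
    exact pnElem_mem_pi hB two_pos (pcore_pgroup _ _) h4

end BG15

open BG15 Cfsg.Lib.FT.BG15 in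
/-- B & G, Theorem 15.7 (as corrected in the Coq development), with `X = F(M) ∩ F(M)^g`.
In (d), `E = E₂ ⋊ E₁` with `E₁` cyclic. -/
theorem nonTI_Fitting_structure (hG : Ctx G) {M X : Subgroup G} (hM : Mx M)
    {g : G} (hg : g ∉ M) (hX : X = fittingOf M ⊓ g •ᶜ fittingOf M) (hX1 : X ≠ ⊥) :
    ((MaxF M ∨ MaxP1 M) ∧ fittingHallOf M = sigmaCore M) ∧
    (X ≤ fittingHallOf M ∧ IsCyclic X) ∧
    (⁅M, M⁆ ≤ fittingOf M ∧
      DProd (sigmaCore M) (piCoreOf (sigma M)ᶜ (fittingOf M)) (fittingOf M)) ∧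
    (∀ E E₁ E₂ E₃ : Subgroup G, SigmaCompl M E E₁ E₂ E₃ →
      E₃ = ⊥ ∧ SDProd E₂ E₁ E ∧ IsCyclic E₁) ∧
    ((MaxF M ∧ IsMulCommutative (fittingHallOf M) ∧ rank (fittingHallOf M) = 2) ∨
      ∃ p : ℕ, p.Prime ∧ Nat.card X = p ∧ p ∈ sigma M ∧ p ∉ beta M ∧
        ¬ IsMulCommutative (piCoreOf {p} (fittingHallOf M)) ∧
        IsCyclic (piCoreOf {p}ᶜ (fittingHallOf M)) ∧
        ((∀ q : ℕ, q.Prime → q ∣ Nat.card (fittingHallOf M) →
            ∀ x ∈ M, x ^ (q - 1) ∈ fittingHallOf M) ∨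
          (Nat.card (piCoreOf {p} (fittingHallOf M)) = p ^ 3 ∧ MaxP1 M ∧
            (fittingHallOf M).relIndex M ∣ p + 1))) := by
  obtain ⟨⟨hty, hH⟩, ⟨hXS, hXc⟩, ⟨hder, hdp⟩, hd, hβ⟩ := nonTI_basic hG hM hg hX hX1
  refine ⟨⟨hty, hH⟩, ⟨hH ▸ hXS, hXc⟩, ⟨hder, hdp⟩, hd, ?_⟩
  rw [hH]
  have hnil := (Fcore_eq_Msigma hG hM).1 hH
  have hσn := Msigma_normal M
  obtain ⟨K, hK⟩ := ex_kappa_Hall hG hM
  by_cases hab : IsMulCommutative (sigmaCore M)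
  · left
    obtain ⟨X₁, hX₁, hp⟩ := exists_prime_subgroup_of_ne_bot hX1
    have hC := (prime_sigma hG hM hg hp rfl (hX ▸ hX₁)).2
    refine ⟨hty.resolve_right fun hP => ?_, hab, le_antisymm ?_ ?_⟩
    · obtain ⟨h1, -, h2, -⟩ := Ptype_cyclics hG hP.maxP hK
      exact h1 (eq_bot_iff.2 (h2.trans (abelian_iff_der.1 (abelianS hder
        (hdp.abelian hab (cyclic_abelian (Fitting_structure hG hM).1.1)))).le))
    · by_contra h
      exact not_uniq hG hM (prime_ne_bot hp) hC hσn.le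
        ((abelian_le_cent hab).trans (centS (hX₁.trans hXS)))
        (rank3_Uniqueness hG (sub_mmax_proper hM hσn.le) (by omega))
    · by_contra h
      exact hC (mmax_normal_cent hG hM (normal_sub_cyclic
        ((abelian_rank1_cyclic hab).2 (by omega)) (hX₁.trans hXS) hσn) (prime_ne_bot hp))
  right
  obtain ⟨p, hp, hXp, hσ, hPna, hcyc, hZ₀⟩ := nonTI_nonabelian hG hM hg hX hX1 hab
  refine ⟨p, hp, hXp, hσ, hβ p, hPna, hcyc, ?_⟩
  have := Fact.mk hp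
  have hZn : ∀ q : ℕ, M ≤ 𝐍 (omegaOne q (centerOf (piCoreOf {q} (sigmaCore M)))) := fun q =>
    norms_Ohm (norms_center (norms_pcore _ hσn.norm))
  have hZs : ∀ q : ℕ, omegaOne q (centerOf (piCoreOf {q} (sigmaCore M))) ≤
      piCoreOf {q} (sigmaCore M) := fun q => (Ohm_sub _ _).trans inf_le_left
  have hZc : ∀ q : ℕ, q.Prime → q ∣ Nat.card (sigmaCore M) →
      Nat.card (omegaOne q (centerOf (piCoreOf {q} (sigmaCore M)))) = q := fun q hq hqd => by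
    by_cases hqp : q = p
    · exact hqp ▸ hZ₀
    have := Fact.mk hq
    have h1 : IsCyclic (piCoreOf {q} (sigmaCore M)) :=
      cyclicS (sub_pcore (Set.singleton_subset_iff.2 hqp) _) hcyc
    refine Ohm1_cyclic_pgroup_prime (cyclicS inf_le_left h1)
      (isPGroupS inf_le_left (pcore_isPGroup q _)) ?_
    exact mt (center_nil_eq1 (pgroup_nil (pcore_isPGroup q _))).1
      (Sylow_ne_bot (nilpotent_pcore_Hall _ hnil) hqd)
  have hreg : ∀ q : ℕ, q.Prime → q ∣ Nat.card (sigmaCore M) → ∀ W : Subgroup G, W ≤ M →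
      Semiregular (omegaOne q (centerOf (piCoreOf {q} (sigmaCore M)))) W → Nat.card W ∣ q - 1 :=
    fun q hq hqd W hW h => hZc q hq hqd ▸ h.card_dvd (hW.trans (hZn q))
  obtain ⟨U, hUK⟩ := ex_kappa_compl hG hM hK
  obtain ⟨hE, -, hME, hpr, -⟩ := kappa_compl_context hG hM hUK
  rcases hty with hF | hP
  · left
    intro q hq hqd x hx
    have hK1 := (trivg_kappa hM hK).2 hF
    rw [hK1, sup_bot_eq] at hME
    obtain ⟨U₀, h1, h2, h3⟩ := (kappa_structure hG hM hUK).2.2.2.2 fun h => by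
      obtain ⟨-, -, h1, h2⟩ := Fcore_structure hG hM
      exact (h1.trans_lt h2).ne (hME.right_eq_bot_iff.1 h)
    refine pow_mem_of_sdprod hME (fun u hu => ?_) hx
    have h4 : Monoid.exponent U ∣ q - 1 := h2 ▸ Group.exponent_dvd_nat_card.trans
      (hreg q hq hqd U₀ (h1.trans hME.le_right)
        (h3.regular.mono ((hZs q).trans (pcore_sub _ _)) le_rfl))
    simpa using congrArg Subtype.val (Monoid.exponent_dvd_iff_forall_pow_eq_one.1 h4 ⟨u, hu⟩)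
  rw [(trivg_kappa_compl hG hM hUK).2 hP, bot_sup_eq] at hE hME
  have hKc := kappa_Hall_cyclic hG hM hK
  have hKM := hME.le_right
  obtain ⟨P, hPe⟩ : ∃ P, P = piCoreOf {p} (sigmaCore M) := ⟨_, rfl⟩
  have hPσ : P ≤ sigmaCore M := hPe ▸ pcore_sub _ _
  have hPp : IsPGroup p P := hPe ▸ pcore_isPGroup p _
  have hMP : M ≤ 𝐍 P := hPe ▸ norms_pcore _ hσn.norm
  have hKsP : sigmaCore M ⊓ 𝐂 K ≤ P := by
    have h1 := (Ptype_cyclics hG hP.maxP hK).2.2.1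
    have h2 := (nilpotent_pcoreC {p} hnil).der.sup
    rw [abelian_iff_der.1 (cyclic_abelian hcyc), sup_bot_eq, ← hPe] at h2
    exact (h1.trans (dergS (hME.der_le_left (cyclic_abelian hKc)))).trans (h2 ▸ der_sub P)
  have hall : (∀ k ∈ K, k ^ (p - 1) = 1) → ∀ q : ℕ, q.Prime → q ∣ Nat.card (sigmaCore M) →
      ∀ x ∈ M, x ^ (q - 1) ∈ sigmaCore M := fun h q hq hqd x hx => by
    refine pow_mem_of_sdprod hME (fun k hk => ?_) hx
    by_cases hqp : q = p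
    · exact hqp ▸ h k hk
    have := Fact.mk hq
    refine orderOf_dvd_iff_pow_eq_one.1 ((order_dvdG hk).trans (hreg q hq hqd K hKM
      ((hpr.mono ((hZs q).trans (pcore_sub _ _)) le_rfl).regular ?_)))
    rw [eq_bot_iff, ← coprime_TIg (pgroup_coprime_of_ne (pcore_isPGroup q (sigmaCore M)) hPp hqp)]
    exact le_inf (inf_le_left.trans (hZs q))
      ((inf_le_inf_right _ ((hZs q).trans (pcore_sub _ _))).trans hKsP)
  have hall' : Nat.card K ∣ p - 1 → ∀ k ∈ K, k ^ (p - 1) = 1 := fun h k hk =>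
    orderOf_dvd_iff_pow_eq_one.1 ((order_dvdG hk).trans h)
  have hpd : p ∣ Nat.card (sigmaCore M) := hXp ▸ cardSg hXS
  by_cases hZK : omegaOne p (centerOf (piCoreOf {p} (sigmaCore M))) ⊓ 𝐂 K = ⊥
  · exact Or.inl (hall (hall' (hreg p hp hpd K hKM
      ((hpr.mono ((hZs p).trans (pcore_sub _ _)) le_rfl).regular hZK))))
  rw [← hPe] at hZK hZ₀ hPna ⊢
  have hZK' : omegaOne p (centerOf P) ≤ 𝐂 K := prime_meetG (by rwa [hZ₀]) hZK
  have hKs : sigmaCore M ⊓ 𝐂 K = omegaOne p (centerOf P) := by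
    obtain ⟨_, -, -, -, -, -, -, -, h1, -⟩ := Ptype_embedding hG hP.maxP hK
    rcases h1 with ⟨h1, -⟩ | ⟨-, h1⟩
    · exact absurd h1 hP.not_maxP2
    have h2 : omegaOne p (centerOf P) ≤ sigmaCore M ⊓ 𝐂 K :=
      le_inf (((Ohm_sub _ _).trans inf_le_left).trans hPσ) hZK'
    refine le_antisymm (prime_meetG h1 ?_) h2
    rw [inf_eq_right.2 h2]
    exact prime_ne_bot (by rwa [hZ₀])
  have hcPK : (Nat.card P).Coprime (Nat.card K) := coprimeSg hPσ (coprime_sigma_compl hG hM hE)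
  have hPS : IsSylowOf p P (sigmaCore M) := hPe ▸ nilpotent_pcore_Hall _ hnil
  have hcK : p.Coprime (Nat.card K) :=
    Nat.Coprime.coprime_dvd_left (pgroup_dvd_card hPp (Sylow_ne_bot hPS hpd)) hcPK
  by_cases hr : 2 < rank P
  · refine Or.inl (hall fun k hk => ?_)
    have h1 : IsNarrow p P := by
      by_contra h
      exact hβ p ((mem_beta_iff_not_narrow hG hM hp
        (subHall_Sylow (Msigma_Hall hG hM) hσ hPS)).2 h)
    have h2 := norm_narrow_rank3_pow hp hPp (mFT_odd hG P) h1 hr (hMP (hKM hk))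
      (Nat.Coprime.coprime_dvd_left (order_dvdG hk) hcK.symm)
    by_contra hne
    have h3 := hpr.stab hPσ (trivgPn.2 ⟨_, ⟨K.pow_mem hk _, h2⟩, hne⟩)
    have h4 : P ≤ omegaOne p (centerOf P) :=
      hKs ▸ le_inf hPσ (centsC.1 (h3 ▸ inf_le_right))
    exact hPna (abelianS (h4.trans (Ohm_sub _ _)) (abelian_center P))
  obtain ⟨S, C, -, hS, -, hCc, hSC, hΩ⟩ := mFT_rank2_Sylow_cprod hG hp
    (subHall_Sylow (Msigma_Hall_G hG hM) hσ hPS) (not_lt.1 hr) hPna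
  have hCa := cyclic_abelian hCc
  have hZC : centerOf P = C := by
    have h1 := hSC.center.sup
    rw [← hΩ, show centerOf C = C from inf_eq_left.2 (abelian_le_cent hCa),
      sup_eq_right.2 (Ohm_sub _ _)] at h1
    exact h1.symm
  have hCZ : C ≤ omegaOne p C := by
    have h1 : K ≤ 𝐂 C := coprime_abelian_faithful_omegaOne hp
      (pgroup_iff.2 (isPGroupS hSC.le_right hPp)) (hZC ▸ norms_center (hKM.trans hMP))
      (coprimeSg hSC.le_right hcPK) hCa (centsC.1 (hZC ▸ hZK'))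
    rw [← hZC, ← hKs, hZC]
    exact le_inf (hSC.le_right.trans hPσ) (centsC.1 h1)
  have hPS' : S = P := by
    rw [← hSC.sup, sup_eq_left.2 (hCZ.trans (hΩ ▸ inf_le_left))]
  subst hPS'
  have hZ : omegaOne p (centerOf S) = centerOf S := by rw [hZC, hΩ, hZC]
  rw [hZ] at hZ₀ hKs
  have := cyclic_abelian hKc
  rcases extraspecial_sdprod_cycle_dvd (n := 1) hp hZ₀ (der_le_cent_of_card hZ₀ hS) hS
    (hKM.trans hMP) hcK (fun x hx hx1 => by
      rw [(hpr.mono hPσ le_rfl) x hx hx1]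
      exact le_antisymm ((inf_le_inf_right _ hPσ).trans hKs.le)
        (le_inf inf_le_left (hKs.ge.trans inf_le_right))) with h | h
  · exact Or.inr ⟨hS, hP, by rwa [hME.relIndex_left, ← pow_one p]⟩
  · exact Or.inl (hall (hall' (by rwa [pow_one] at h)))

/-- If `F(M)#` is not a TI-set with normalizer `M`, some `g ∉ M` has `F(M) ∩ F(M)^g ≠ 1`. -/
theorem exists_nonTI_Fitting (hG : Ctx G) {M : Subgroup G} (hM : Mx M)
    (h : ¬ NormedTI (sharp (fittingOf M)) ⊤ M) :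
    ∃ g : G, g ∉ M ∧ fittingOf M ⊓ g •ᶜ fittingOf M ≠ ⊥ := by
  by_contra hne
  push Not at hne
  exact h (NormedTI.of_inf_conj (mmax_Fitting_neq1 hG hM) le_top (Fitting_normal M).norm
    fun g _ hg => hne g hg)

/-- The part of 15.7 used in the summaries of section 16. -/
theorem nonTI_Fitting_facts (hG : Ctx G) {M : Subgroup G} (hM : Mx M)
    (h : ¬ NormedTI (sharp (fittingOf M)) ⊤ M) :
    (MaxF M ∨ MaxP1 M) ∧ fittingHallOf M = sigmaCore M ∧ ⁅M, M⁆ ≤ fittingOf M := by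
  obtain ⟨g, hg, h1⟩ := exists_nonTI_Fitting hG hM h
  obtain ⟨⟨h2, h3⟩, -, ⟨h4, -⟩, -⟩ := BG15.nonTI_basic hG hM hg rfl h1
  exact ⟨h2, h3, h4⟩

end Cfsg.Lib.FT.PG
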